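import Cfsg.Agent.S1093
import Cfsg.Agent.SpMult.Main
import Mathlib.GroupTheory.Coxeter.Matrix
import Mathlib.Algebra.CharP.Two

/-!
The Weyl group of type E₇ on the six-dimensional symplectic space over two elements.
-/

set_option autoImplicit false
set_option linter.style.haveILetI false

namespace CfsgLib.SpSixMult

open Subgroup Matrix CfsgLib.SpPres CfsgLib.SpMult

universe u v

/-- The Coxeter group of type E₇. -/
abbrev W : Type := CoxeterMatrix.E₇.Group

/-- Its simple reflections. -/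
def s (i : Fin 7) : W := CoxeterMatrix.E₇.toCoxeterSystem.simple i

theorem card_W : Nat.card W = 2903040 :=
  Cfsg.Agent.S1093.result (⟨7, CoxeterMatrix.E₇⟩, 2903040) (by simp)

instance : Finite W := Nat.finite_of_card_ne_zero (by rw [card_W]; norm_num)

theorem adj_cases (i j : Fin 7) :
    CoxeterMatrix.E₇ i j = 1 ∧ i = j ∨ CoxeterMatrix.E₇ i j = 2 ∧ i ≠ j ∨ CoxeterMatrix.E₇ i j = 3 ∧ i ≠ j := by
  fin_cases i <;> fin_cases j <;> decide

/-- Maps out of `W`. -/
theorem exists_lift {G : Type v} [Group G] (f : Fin 7 → G) (h1 : ∀ i, f i * f i = 1)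
    (h2 : ∀ i j, CoxeterMatrix.E₇ i j = 2 → f i * f j = f j * f i)
    (h3 : ∀ i j, CoxeterMatrix.E₇ i j = 3 → f i * f j * f i = f j * f i * f j) :
    ∃ Φ : W →* G, ∀ i, Φ (s i) = f i := by
  have hf : CoxeterMatrix.E₇.IsLiftable f := fun i j => by
    rcases adj_cases i j with ⟨e, rfl⟩ | ⟨e, -⟩ | ⟨e, -⟩
    · rw [e, pow_one, h1]
    · rw [e, pow_two, Commute.mul_mul_mul_comm (h2 i j e).symm, h1, h1, one_mul]
    · rw [e, show (f i * f j) ^ 3 = f i * f j * f i * (f j * f i * f j) by
        simp only [pow_succ, pow_zero, one_mul, mul_assoc], ← h3 i j e,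
        show f i * f j * f i * (f i * f j * f i) = f i * (f j * (f i * f i) * f j) * f i by
          simp only [mul_assoc], h1, mul_one, h1, mul_one, h1]
  exact ⟨CoxeterMatrix.E₇.toCoxeterSystem.lift ⟨f, hf⟩, fun i =>
    CoxeterMatrix.E₇.toCoxeterSystem.lift_apply_simple hf i⟩

/-- The derived group has at most half the elements. -/
theorem card_commutator_W : Nat.card (commutator W) ≤ 1451520 := by
  obtain ⟨σ, hσ⟩ := exists_lift (fun _ : Fin 7 => Multiplicative.ofAdd (1 : ZMod 2))
    (fun _ => by decide) (fun _ _ _ => rfl) (fun _ _ _ => rfl)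
  have hle : commutator W ≤ σ.ker := Abelianization.commutator_subset_ker σ
  have hs : Function.Surjective σ := fun y => by
    rcases (show y = 1 ∨ y = Multiplicative.ofAdd (1 : ZMod 2) by revert y; decide) with rfl | rfl
    · exact ⟨1, map_one σ⟩
    · exact ⟨s 0, hσ 0⟩
  have h := σ.ker.card_mul_index
  rw [Subgroup.index_ker, MonoidHom.range_eq_top.2 hs, Subgroup.card_top,
    show Nat.card (Multiplicative (ZMod 2)) = 2 from Nat.card_zmod 2, card_W] at h
  have := Nat.card_le_card_of_injective _ (Subgroup.inclusion_injective hle)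
  omega

/-- The images of the simple roots, modulo two. -/
def root (i : Fin 7) : Fin 6 → ZMod 2 :=
  ![
    ![1, 0, 0, 0, 0, 0],
    ![0, 1, 1, 0, 0, 0],
    ![0, 0, 0, 1, 0, 0],
    ![1, 0, 0, 0, 1, 0],
    ![0, 1, 0, 0, 0, 0],
    ![0, 0, 0, 0, 1, 1],
    ![0, 0, 1, 0, 0, 0]] i

/-- Coordinates on the symplectic space. -/
def coord : Fin 3 ⊕ Fin 3 → Fin 6 := Sum.elim (fun i => ⟨i, by omega⟩) (fun i => ⟨3 + i, by omega⟩)

/-- The form modulo two. -/
def form2 (a b : Fin 6 → ZMod 2) : ZMod 2 :=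
  (a 0 * b 3 - a 3 * b 0) + (a 1 * b 4 - a 4 * b 1) + (a 2 * b 5 - a 5 * b 2)

theorem form_root (i j : Fin 7) :
    form2 (root i) (root j) = if CoxeterMatrix.E₇ i j = 3 then 1 else 0 := by
  fin_cases i <;> fin_cases j <;> decide

/-- A list of steps reaching every non-zero vector from the roots. -/
def steps : List (ℕ × Fin 7) := [(0, 2), (1, 3), (2, 3), (3, 4), (4, 5), (5, 6), (7, 3), (8, 2), (8, 4), (9, 4), (10, 5), (11, 6), (13, 1), (13, 4), (14, 4), (15, 5), (16, 5), (17, 6), (19, 4), (20, 5), (21, 3), (21, 5), (22, 6), (23, 6), (25, 3), (25, 5), (26, 6), (27, 5), (28, 6), (31, 2), (31, 5), (32, 6), (34, 4), (34, 6), (36, 5), (37, 4), (37, 6), (39, 6), (41, 4), (41, 6), (42, 6), (44, 5), (45, 3), (45, 6), (47, 5), (49, 1), (49, 6), (50, 5), (52, 6), (53, 5), (55, 5), (56, 4), (57, 4), (59, 3), (60, 2), (61, 0)]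

/-- One step. -/
def grow (l : List (Fin 6 → ZMod 2)) (p : ℕ × Fin 7) : List (Fin 6 → ZMod 2) :=
  if form2 (root p.2) (l.getD p.1 0) = 1 then l ++ [l.getD p.1 0 + root p.2] else l

/-- The vectors reached. -/
def reached : List (Fin 6 → ZMod 2) := steps.foldl grow (List.ofFn root)

theorem reached_all : ∀ a : Fin 6 → ZMod 2, a = 0 ∨ a ∈ reached := by
  decide +kernel

variable {F : Type u} [Field F] [CharP F 2]

/-- The vector of given coordinates. -/
def vec (a : Fin 6 → ZMod 2) : Vec F 3 := fun x => ZMod.castHom (dvd_refl 2) F (a (coord x))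

theorem vec_add (a b : Fin 6 → ZMod 2) : (vec (a + b) : Vec F 3) = vec a + vec b :=
  funext fun _ => map_add _ _ _

theorem vec_zero : (vec 0 : Vec F 3) = 0 := funext fun _ => map_zero _

theorem bl_vec (a b : Fin 6 → ZMod 2) : bl (vec a : Vec F 3) (vec b) = ZMod.castHom (dvd_refl 2) F (form2 a b) := by
  rw [bl_apply, Fin.sum_univ_three, form2]
  simp only [map_add, map_sub, map_mul]
  rfl

theorem vec_surjective (h2 : ∀ x : F, x = 0 ∨ x = 1) (v : Vec F 3) : ∃ a, vec a = v := by
  classical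
  refine ⟨fun k => if (Sum.elim (fun i : Fin 3 => v (Sum.inl i)) (fun i => v (Sum.inr i)))
      (if h : (k : ℕ) < 3 then Sum.inl ⟨k, h⟩ else Sum.inr ⟨k - 3, by omega⟩) = 0 then 0 else 1, ?_⟩
  funext x
  rcases x with i | i <;> fin_cases i <;> simp [vec, coord] <;> split_ifs with h <;>
    first | exact h.symm | exact ((h2 _).resolve_left h).symm | simp [h] | simp [(h2 _).resolve_left h]

/-- The transvection of a simple root. -/
def gen (i : Fin 7) : Spn F 3 := tr (vec (root i))

theorem gen_sq (i : Fin 7) : (gen i : Spn F 3) * gen i = 1 := tr_sq _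

theorem gen_conj (i : Fin 7) (a : Fin 6 → ZMod 2) :
    (gen i : Spn F 3) * tr (vec a) * (gen i)⁻¹ =
      tr (vec (if form2 (root i) a = 1 then a + root i else a)) := by
  rw [gen, tr_conj, α_tr, bl_vec]
  rcases (show form2 (root i) a = 0 ∨ form2 (root i) a = 1 from (by decide : ∀ z : ZMod 2, z = 0 ∨ z = 1) _) with e | e
  · rw [e, map_zero, zero_smul, add_zero, if_neg (by decide)]
  · rw [e, map_one, one_smul, if_pos rfl, vec_add]

theorem gen_comm (i j : Fin 7) (h : CoxeterMatrix.E₇ i j = 2) : (gen i : Spn F 3) * gen j = gen j * gen i := by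
  have := gen_conj (F := F) i (root j)
  rw [form_root, if_neg (by rw [h]; decide)] at this
  exact mul_inv_eq_iff_eq_mul.1 this

theorem gen_braid (i j : Fin 7) (h : CoxeterMatrix.E₇ i j = 3) :
    (gen i : Spn F 3) * gen j * gen i = gen j * gen i * gen j := by
  have hji : CoxeterMatrix.E₇ j i = 3 := by rw [CoxeterMatrix.symmetric, h]
  have h1 := gen_conj (F := F) i (root j)
  have h2 := gen_conj (F := F) j (root i)
  rw [form_root, if_pos h, if_pos rfl, inv_eq_of_mul_eq_one_right (gen_sq i)] at h1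
  rw [form_root, if_pos hji, if_pos rfl, inv_eq_of_mul_eq_one_right (gen_sq j)] at h2
  exact h1.trans ((congrArg (fun a => tr (vec a)) (add_comm _ _)).trans h2.symm)

theorem tr_eq_tv (v : Vec F 3) (c : F) (h2 : ∀ x : F, x = 0 ∨ x = 1) :
    CfsgLib.Symp.tv v c = 1 ∨ CfsgLib.Symp.tv v c = tr v ∨ CfsgLib.Symp.tv v c = (tr v)⁻¹ := by
  rcases h2 c with rfl | rfl
  · exact Or.inl (CfsgLib.Symp.symp_ext fun x => by simp [CfsgLib.Symp.tv_smul])
  · refine Or.inr (Or.inl (αSp_injective (LinearEquiv.ext fun x => ?_)))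
    rw [α_tr]
    refine (CfsgLib.Symp.tv_smul v 1 x).trans ?_
    rw [one_mul]
    congr 2
    rw [bl_apply]
    simp [CfsgLib.Symp.form, dotProduct, Matrix.mulVec, Matrix.J, Fintype.sum_sum_type, Fin.sum_univ_three,
      Matrix.fromBlocks, Matrix.one_apply, CharTwo.sub_eq_add, CharTwo.neg_eq]
    ring

theorem exists_phi (h2 : ∀ x : F, x = 0 ∨ x = 1) :
    ∃ φ : W →* Spn F 3, Function.Surjective φ ∧ ∀ i, φ (s i) = gen i := by
  obtain ⟨φ, hφ⟩ := exists_lift (gen (F := F)) gen_sq gen_comm gen_braid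
  refine ⟨φ, ?_, hφ⟩
  have hroot : ∀ a ∈ List.ofFn root, tr (vec a) ∈ φ.range := fun a ha => by
    obtain ⟨i, rfl⟩ := List.mem_ofFn.1 ha
    exact ⟨s i, hφ i⟩
  have hgrow : ∀ (ps : List (ℕ × Fin 7)) (l : List (Fin 6 → ZMod 2)), (∀ a ∈ l, tr (vec a) ∈ φ.range) →
      ∀ a ∈ ps.foldl grow l, (tr (vec a) : Spn F 3) ∈ φ.range := by
    intro ps
    induction ps with
    | nil => exact fun _ h => h
    | cons p ps ih =>
      intro l hl
      refine ih _ fun a ha => ?_
      unfold grow at ha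
      split_ifs at ha with hc
      · rcases List.mem_append.1 ha with ha | ha
        · exact hl a ha
        rw [List.mem_singleton] at ha
        subst ha
        by_cases hp : p.1 < l.length
        · have h := gen_conj (F := F) p.2 (l.getD p.1 0)
          rw [if_pos hc] at h
          rw [← h]
          have hm : tr (vec (l.getD p.1 0)) ∈ φ.range := hl _ (by
            rw [List.getD_eq_getElem _ _ hp]; exact List.getElem_mem hp)
          exact mul_mem (mul_mem ⟨s p.2, hφ _⟩ hm) (inv_mem ⟨s p.2, hφ _⟩)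
        · rw [List.getD_eq_default _ _ (by omega)] at hc
          exact absurd hc (by revert hc; simp [form2])
      · exact hl a ha
  rw [← MonoidHom.range_eq_top, eq_top_iff, ← CfsgLib.Symp.tvGroup_eq_top, CfsgLib.Symp.tvGroup,
    Subgroup.closure_le]
  rintro g ⟨w, -, c, rfl⟩
  have hw : tr w ∈ φ.range := by
    obtain ⟨a, rfl⟩ := vec_surjective h2 w
    rcases reached_all a with rfl | ha
    · rw [vec_zero, tr_zero]; exact one_mem _
    · exact hgrow steps _ hroot a ha
  rcases tr_eq_tv w c h2 with e | e | e <;> rw [SetLike.mem_coe, e]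
  exacts [one_mem _, hw, inv_mem hw]

theorem card_sp6 [Finite F] (h2 : ∀ x : F, x = 0 ∨ x = 1) : Nat.card (Spn F 3) = 1451520 := by
  classical
  haveI := Fintype.ofFinite F
  have hu : ({0, 1} : Finset F) = Finset.univ := Finset.eq_univ_iff_forall.2 fun x => by simpa using h2 x
  rw [CfsgLib.Symp.card_Sp, Nat.card_eq_fintype_card, ← Finset.card_univ, ← hu, Finset.card_pair zero_ne_one]
  rfl

end CfsgLib.SpSixMult
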