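import Cfsg.Agent.SpSixMult.Weyl
import Cfsg.Agent.Schur.Pullback
import Mathlib.LinearAlgebra.Matrix.GeneralLinearGroup.Defs

/-!
Roots of E₇ as elements of a Clifford algebra modulo three, acting on eight dimensions.
-/

set_option autoImplicit false
set_option linter.style.haveILetI false

namespace CfsgLib.SpSixMult

open Subgroup
open scoped commutatorElement

/-- The seven matrices. -/
def mat : Fin 7 → Matrix (Fin 8) (Fin 8) (ZMod 3) := ![
  !![0, 2, 0, 0, 0, 0, 0, 0;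
    1, 0, 0, 0, 0, 0, 0, 0;
    0, 0, 0, 0, 2, 0, 0, 0;
    0, 0, 0, 0, 0, 0, 0, 2;
    0, 0, 1, 0, 0, 0, 0, 0;
    0, 0, 0, 0, 0, 0, 2, 0;
    0, 0, 0, 0, 0, 1, 0, 0;
    0, 0, 0, 1, 0, 0, 0, 0],
  !![0, 0, 1, 1, 1, 0, 0, 2;
    0, 0, 1, 2, 2, 0, 0, 2;
    2, 2, 0, 0, 0, 2, 2, 0;
    2, 1, 0, 0, 0, 1, 2, 0;
    2, 1, 0, 0, 0, 2, 1, 0;
    0, 0, 1, 2, 1, 0, 0, 1;
    0, 0, 1, 1, 2, 0, 0, 1;
    1, 1, 0, 0, 0, 2, 2, 0],
  !![0, 2, 0, 0, 1, 0, 1, 1;
    1, 0, 1, 1, 0, 1, 0, 0;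
    0, 2, 0, 0, 2, 0, 1, 2;
    0, 2, 0, 0, 1, 0, 2, 2;
    2, 0, 1, 2, 0, 1, 0, 0;
    0, 2, 0, 0, 2, 0, 2, 1;
    2, 0, 2, 1, 0, 1, 0, 0;
    2, 0, 1, 1, 0, 2, 0, 0],
  !![0, 0, 0, 0, 1, 0, 0, 0;
    0, 0, 1, 0, 0, 0, 0, 0;
    0, 2, 0, 0, 0, 0, 0, 0;
    0, 0, 0, 0, 0, 0, 2, 0;
    2, 0, 0, 0, 0, 0, 0, 0;
    0, 0, 0, 0, 0, 0, 0, 1;
    0, 0, 0, 1, 0, 0, 0, 0;
    0, 0, 0, 0, 0, 2, 0, 0],
  !![0, 0, 2, 2, 1, 0, 0, 2;
    0, 0, 1, 2, 1, 0, 0, 1;
    1, 2, 0, 0, 0, 1, 2, 0;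
    1, 1, 0, 0, 0, 2, 2, 0;
    2, 2, 0, 0, 0, 2, 2, 0;
    0, 0, 2, 1, 1, 0, 0, 1;
    0, 0, 1, 1, 1, 0, 0, 2;
    1, 2, 0, 0, 0, 2, 1, 0],
  !![0, 0, 0, 1, 0, 1, 2, 1;
    0, 0, 0, 1, 0, 2, 2, 2;
    0, 0, 0, 1, 0, 2, 1, 1;
    2, 2, 2, 0, 2, 0, 0, 0;
    0, 0, 0, 1, 0, 1, 1, 2;
    2, 1, 1, 0, 2, 0, 0, 0;
    1, 1, 2, 0, 2, 0, 0, 0;
    2, 1, 2, 0, 1, 0, 0, 0],
  !![0, 0, 0, 0, 0, 1, 0, 0;
    0, 0, 0, 0, 0, 0, 2, 0;
    0, 0, 0, 1, 0, 0, 0, 0;
    0, 0, 2, 0, 0, 0, 0, 0;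
    0, 0, 0, 0, 0, 0, 0, 2;
    2, 0, 0, 0, 0, 0, 0, 0;
    0, 1, 0, 0, 0, 0, 0, 0;
    0, 0, 0, 0, 1, 0, 0, 0]]

set_option maxRecDepth 10000 in
theorem mat_sq : ∀ i, mat i * mat i = -1 := by decide +kernel

set_option maxRecDepth 10000 in
theorem mat_two : ∀ i j, CoxeterMatrix.E₇ i j = 2 → mat i * mat j = -(mat j * mat i) := fun i j h => by
  fin_cases i <;> fin_cases j <;> first | exact absurd h (by decide) | decide +kernel

set_option maxRecDepth 10000 in
theorem mat_three : ∀ i j, CoxeterMatrix.E₇ i j = 3 → mat i * mat j * mat i = mat j * mat i * mat j := fun i j h => by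
  fin_cases i <;> fin_cases j <;> first | exact absurd h (by decide) | decide +kernel

/-- The matrices as units. -/
def X (i : Fin 7) : GL (Fin 8) (ZMod 3) :=
  ⟨mat i, -mat i, by rw [mul_neg, mat_sq, neg_neg], by rw [neg_mul, mat_sq, neg_neg]⟩

/-- The scalars `±1`. -/
abbrev pm : Subgroup (GL (Fin 8) (ZMod 3)) := zpowers (-1)

instance pm_normal : pm.Normal :=
  ⟨fun n hn g => by
    obtain ⟨k, rfl⟩ := hn
    have h : (-1 : GL (Fin 8) (ZMod 3)) ∈ center _ := mem_center_iff.2 fun g => by simp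
    show g * (-1 : GL (Fin 8) (ZMod 3)) ^ k * g⁻¹ ∈ pm
    rw [mem_center_iff.1 (zpow_mem h k) g, mul_inv_cancel_right]
    exact ⟨k, rfl⟩⟩

theorem X_sq (i : Fin 7) : X i * X i = -1 := Units.ext (mat_sq i)

theorem X_two (i j : Fin 7) (h : CoxeterMatrix.E₇ i j = 2) : X i * X j = -(X j * X i) := Units.ext (mat_two i j h)

theorem X_three (i j : Fin 7) (h : CoxeterMatrix.E₇ i j = 3) : X i * X j * X i = X j * X i * X j :=
  Units.ext (mat_three i j h)

/-- The quotient map. -/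
abbrev q : GL (Fin 8) (ZMod 3) →* GL (Fin 8) (ZMod 3) ⧸ pm := QuotientGroup.mk' pm

theorem q_neg (g : GL (Fin 8) (ZMod 3)) : q (-g) = q g := by
  rw [show -g = g * -1 by simp, map_mul, show q (-1) = 1 from (QuotientGroup.eq_one_iff _).2 (mem_zpowers _), mul_one]

theorem exists_rho : ∃ ρ : W →* GL (Fin 8) (ZMod 3) ⧸ pm, ∀ i, ρ (s i) = q (X i) :=
  exists_lift (fun i => q (X i))
    (fun i => by rw [← map_mul, X_sq, q_neg, map_one])
    (fun i j h => by rw [← map_mul, ← map_mul, X_two i j h, q_neg])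
    (fun i j h => by simp only [← map_mul, X_three i j h])

universe u

variable {F : Type u} [Field F] [CharP F 2] [Finite F]

/-- The double cover. -/
theorem exists_double_cover (h2 : ∀ x : F, x = 0 ∨ x = 1) (hperf : commutator (CfsgLib.SpPres.Spn F 3) = ⊤) :
    ∃ (Γ : Type u) (_ : Group Γ) (_ : Finite Γ) (σ : Γ →* CfsgLib.SpPres.Spn F 3),
      Cfsg.IsStemExtension σ ∧ Nat.card σ.ker = 2 := by
  classical
  obtain ⟨φ, hφs, hφ⟩ := exists_phi h2
  obtain ⟨ρ, hρ⟩ := exists_rho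
  -- the derived group maps isomorphically
  let φ' : commutator W →* CfsgLib.SpPres.Spn F 3 := φ.comp (commutator W).subtype
  have hs' : Function.Surjective φ' := fun g => by
    obtain ⟨w, hw, rfl⟩ := (Schur.map_commutator_of_surjective φ hφs).ge (hperf ▸ mem_top g)
    exact ⟨⟨w, hw⟩, rfl⟩
  have hb : Function.Bijective φ' := (Nat.bijective_iff_surjective_and_card φ').2 ⟨hs',
    le_antisymm (card_commutator_W.trans (card_sp6 h2).ge) (Nat.card_le_card_of_surjective φ' hs')⟩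
  let e := MulEquiv.ofBijective φ' hb
  let ψ : CfsgLib.SpPres.Spn F 3 →* GL (Fin 8) (ZMod 3) ⧸ pm :=
    (ρ.comp (commutator W).subtype).comp e.symm.toMonoidHom
  let Γ := Schur.pullback ψ q
  let σ : Γ →* CfsgLib.SpPres.Spn F 3 := Schur.pfst ψ q
  have hσs : Function.Surjective σ := Schur.pfst_surjective ψ q (QuotientGroup.mk'_surjective _)
  have hσc : σ.ker ≤ center Γ := Schur.pfst_ker_le_center ψ q (by
    rw [QuotientGroup.ker_mk', zpowers_le]
    exact mem_center_iff.2 fun g => by simp)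
  have hψ : ∀ w (hw : w ∈ commutator W), ψ (φ w) = ρ w := fun w hw => by
    show ρ (e.symm (φ w)).1 = ρ w
    rw [show φ w = e ⟨w, hw⟩ from rfl, e.symm_apply_apply]
  -- products of two simple reflections
  have hmem : ∀ i j, s i * s j ∈ commutator W := fun i j => by
    have h : ∀ a b, CoxeterMatrix.E₇ a b = 3 → (Abelianization.of (s a) : Abelianization W) = Abelianization.of (s b) := fun a b h => by
      have e := congrArg Abelianization.of (show (s a * s b) ^ CoxeterMatrix.E₇ a b = 1 from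
        CoxeterMatrix.E₇.toCoxeterSystem.simple_mul_simple_pow a b)
      have ha := congrArg Abelianization.of (show s a * s a = 1 from CoxeterMatrix.E₇.toCoxeterSystem.simple_mul_simple_self a)
      have hb := congrArg Abelianization.of (show s b * s b = 1 from CoxeterMatrix.E₇.toCoxeterSystem.simple_mul_simple_self b)
      rw [h, map_pow, map_mul, map_one] at e
      rw [map_mul, map_one] at ha hb
      calc Abelianization.of (s a) = Abelianization.of (s a) * (Abelianization.of (s a) * Abelianization.of (s b)) ^ 3 := by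
            rw [e, mul_one]
        _ = Abelianization.of (s a) * Abelianization.of (s a) * (Abelianization.of (s a) * Abelianization.of (s a)) *
              (Abelianization.of (s b) * Abelianization.of (s b)) * Abelianization.of (s b) := by
            simp only [pow_succ, pow_zero, one_mul, mul_comm, mul_assoc, mul_left_comm]
        _ = _ := by rw [ha, hb, one_mul, one_mul, one_mul]
    have h20 := (h 2 0 (by decide))
    have h30 := (h 3 2 (by decide)).trans h20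
    have h40 := (h 4 3 (by decide)).trans h30
    have h50 := (h 5 4 (by decide)).trans h40
    have hall : ∀ a, (Abelianization.of (s a) : Abelianization W) = Abelianization.of (s 0) := fun a => by
      fin_cases a
      exacts [rfl, (h 1 3 (by decide)).trans h30, h20, h30, h40, h50, (h 6 5 (by decide)).trans h50]
    rw [← QuotientGroup.eq_one_iff]
    show Abelianization.of (s i * s j) = (1 : Abelianization W)
    rw [map_mul, hall i, hall j, ← map_mul, show s 0 * s 0 = 1 from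
      CoxeterMatrix.E₇.toCoxeterSystem.simple_mul_simple_self 0, map_one]
  have hin : ∀ i j, (φ (s i * s j), X i * X j) ∈ Γ := fun i j => by
    show ψ (φ (s i * s j)) = q (X i * X j)
    rw [hψ _ (hmem i j), map_mul, map_mul, hρ, hρ]
  let a : Γ := ⟨_, hin 0 1⟩
  let b : Γ := ⟨_, hin 0 4⟩
  have hX01 : X 0 * X 1 = -(X 1 * X 0) := X_two 0 1 (by decide)
  have hX04 : X 0 * X 4 = -(X 4 * X 0) := X_two 0 4 (by decide)
  have hX14 : X 1 * X 4 = -(X 4 * X 1) := X_two 1 4 (by decide)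
  have hab : X 0 * X 1 * (X 0 * X 4) = -(X 0 * X 4 * (X 0 * X 1)) := by
    apply Units.ext
    simp only [Units.val_mul, Units.val_neg]
    show mat 0 * mat 1 * (mat 0 * mat 4) = -(mat 0 * mat 4 * (mat 0 * mat 1))
    decide +kernel
  have hz1 : ((⁅a, b⁆ : Γ) : CfsgLib.SpPres.Spn F 3 × GL (Fin 8) (ZMod 3)) = (1, -1) := by
    rw [commutatorElement_def]
    refine Prod.ext ?_ ?_
    · show φ (s 0 * s 1) * φ (s 0 * s 4) * (φ (s 0 * s 1))⁻¹ * (φ (s 0 * s 4))⁻¹ = 1
      have c : ∀ i j, CoxeterMatrix.E₇ i j = 2 → Commute (φ (s i)) (φ (s j)) := fun i j h => by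
        rw [Commute, SemiconjBy, hφ, hφ, gen_comm i j h]
      have : Commute (φ (s 0 * s 1)) (φ (s 0 * s 4)) := by
        rw [map_mul, map_mul]
        exact (Commute.mul_left (Commute.refl _) (c 1 0 (by decide))).mul_right
          (Commute.mul_left (c 0 4 (by decide)) (c 1 4 (by decide)))
      rw [this.eq, mul_inv_cancel_right, mul_inv_cancel]
    · show X 0 * X 1 * (X 0 * X 4) * (X 0 * X 1)⁻¹ * (X 0 * X 4)⁻¹ = -1
      rw [hab, neg_mul, neg_mul, mul_inv_cancel_right, mul_inv_cancel]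
  refine ⟨Γ, inferInstance, inferInstance, σ, ⟨hσs, hσc, fun x hx => ?_⟩, ?_⟩
  · have h1 : x.1.1 = 1 := hx
    have h := x.2
    rw [Schur.mem_pullback, h1, map_one] at h
    obtain ⟨k, hk⟩ := (QuotientGroup.eq_one_iff _).1 h.symm
    have : x = ⁅a, b⁆ ^ k := Subtype.ext <| by
      rw [SubgroupClass.coe_zpow, hz1]
      exact Prod.ext (by rw [h1]; exact (_root_.one_zpow k).symm) hk.symm
    rw [this]
    exact zpow_mem (commutator_mem_commutator (mem_top _) (mem_top _)) k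
  · have f : σ.ker ≃ pm :=
      { toFun := fun x => ⟨x.1.1.2, by
          have h := x.1.2
          rw [Schur.mem_pullback, show x.1.1.1 = 1 from x.2, map_one] at h
          exact (QuotientGroup.eq_one_iff _).1 h.symm⟩
        invFun := fun g => ⟨⟨(1, g.1), by
          show ψ 1 = q g.1
          rw [map_one]; exact ((QuotientGroup.eq_one_iff _).2 g.2).symm⟩, rfl⟩
        left_inv := fun x => Subtype.ext (Subtype.ext (Prod.ext (show x.1.1.1 = 1 from x.2).symm rfl))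
        right_inv := fun g => rfl }
    rw [Nat.card_congr f, Nat.card_zpowers, orderOf_eq_iff (by norm_num)]
    refine ⟨by simp, fun k hk1 hk2 => ?_⟩
    obtain rfl : k = 1 := by omega
    rw [pow_one]
    intro h
    have := congrArg (fun g : GL (Fin 8) (ZMod 3) => (g : Matrix (Fin 8) (Fin 8) (ZMod 3)) 0 0) h
    revert this
    simp
    decide

end CfsgLib.SpSixMult
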