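import Cfsg.Agent.SpSixMult.Weyl
import Mathlib.GroupTheory.QuotientGroup.Basic

/-!
The multiplier of a group with the Coxeter relations of type E₇ has at most two elements.
-/

set_option autoImplicit false
set_option linter.style.haveILetI false

namespace CfsgLib.SpSixMult

open Subgroup
open scoped commutatorElement

universe u w

variable {G : Type w} [Group G] {Γ : Type u} [Group Γ] {σ : Γ →* G}

/-- Central translates of braiding elements. -/
theorem exists_braid_lift (hc : σ.ker ≤ center Γ) (hs : Function.Surjective σ) {p q : G}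
    (h : p * q * p = q * p * q) {a : Γ} (ha : σ a = p) : ∃ b, σ b = q ∧ a * b * a = b * a * b := by
  obtain ⟨b, hb⟩ := hs q
  have hl : a * b * a * (b * a * b)⁻¹ ∈ σ.ker := by
    rw [MonoidHom.mem_ker]
    simp only [map_mul, map_inv, ha, hb, h, mul_inv_cancel]
  obtain ⟨l, e, hl⟩ : ∃ l, a * b * a = l * (b * a * b) ∧ l ∈ σ.ker :=
    ⟨_, (inv_mul_cancel_right _ _).symm, hl⟩
  have hz : ∀ g, g * l = l * g := mem_center_iff.1 (hc hl)
  refine ⟨b * l, by rw [map_mul, hb, MonoidHom.mem_ker.1 hl, mul_one], ?_⟩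
  calc a * (b * l) * a = a * b * a * l := by rw [mul_assoc (a * b) a l, hz a]; simp only [mul_assoc]
    _ = l * b * a * b * l := by rw [e]; simp only [mul_assoc]
    _ = b * l * a * (b * l) := by rw [← hz b]; simp only [mul_assoc]

/-- Braiding elements have equal central squares. -/
theorem sq_eq_of_braid {a b : Γ} (h : a * b * a = b * a * b) (ha : a * a ∈ center Γ) : b * b = a * a := by
  have e : (a * b) * a * (a * b)⁻¹ = b := by rw [mul_inv_eq_iff_eq_mul, h]; simp only [mul_assoc]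
  calc b * b = (a * b) * a * (a * b)⁻¹ * ((a * b) * a * (a * b)⁻¹) := by rw [e]
    _ = (a * b) * (a * a) * (a * b)⁻¹ := by group
    _ = _ := by rw [mem_center_iff.1 ha, mul_inv_cancel_right]

/-- Braiding elements have equal commutators with what commutes with both below. -/
theorem comm_eq_of_braid (hc : σ.ker ≤ center Γ) {a b c : Γ} (h : a * b * a = b * a * b)
    (ha : Commute (σ a) (σ c)) (hb : Commute (σ b) (σ c)) : ⁅a, c⁆ = ⁅b, c⁆ := by
  have e : (a * b) * a * (a * b)⁻¹ = b := by rw [mul_inv_eq_iff_eq_mul, h]; simp only [mul_assoc]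
  set z := c⁻¹ * ((a * b) * c * (a * b)⁻¹)
  have hz : z ∈ center Γ := hc (by
    rw [MonoidHom.mem_ker]
    simp only [z, map_mul, map_inv]
    rw [show σ a * σ b * σ c = σ c * (σ a * σ b) from (ha.mul_left hb).eq, mul_inv_cancel_right, inv_mul_cancel])
  have hac : ⁅a, c⁆ ∈ center Γ := hc (by
    rw [MonoidHom.mem_ker, map_commutatorElement, commutatorElement_eq_one_iff_mul_comm]; exact ha.eq)
  calc ⁅a, c⁆ = (a * b) * ⁅a, c⁆ * (a * b)⁻¹ := (CfsgLib.SpMult.conj_central hac _).symm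
    _ = ⁅b, c * z⁆ := by rw [conjugate_commutatorElement, e, mul_inv_cancel_left]
    _ = ⁅b, c⁆ := by
      simp only [commutatorElement_def, mul_inv_rev]
      calc b * (c * z) * b⁻¹ * (z⁻¹ * c⁻¹) = b * c * (z * b⁻¹) * z⁻¹ * c⁻¹ := by group
        _ = b * c * (b⁻¹ * z) * z⁻¹ * c⁻¹ := by rw [mem_center_iff.1 hz b⁻¹]
        _ = _ := by group

theorem card_le_of_relations {Δ : Type u} [Group Δ] [Finite Δ] (π : Δ →* G) (hs : Function.Surjective π)
    (hc : π.ker ≤ center Δ) (hperf : commutator Δ = ⊤) (x : Fin 7 → Δ)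
    (hgen : Subgroup.closure (Set.range fun i => π (x i)) = ⊤)
    (hsq : ∀ i, x i * x i = x 0 * x 0) (ht : π (x 0) * π (x 0) = 1)
    (h2 : ∀ i j, CoxeterMatrix.E₇ i j = 2 → x i * x j = x j * x i)
    (h3 : ∀ i j, CoxeterMatrix.E₇ i j = 3 → x i * x j * x i = x j * x i * x j) :
    Nat.card Δ ≤ 1451520 := by
  classical
  set t := x 0 * x 0 with ht'
  have htc : t ∈ center Δ := hc (by rw [MonoidHom.mem_ker, ht', map_mul, ht])
  let C : Type := Multiplicative (ZMod (2 * orderOf t))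
  let c : C := Multiplicative.ofAdd 1
  let N : Subgroup (Δ × C) := zpowers (t, (c * c)⁻¹)
  haveI : N.Normal := ⟨fun n hn g => by
    obtain ⟨k, rfl⟩ := hn
    have : (t, (c * c)⁻¹) ∈ center (Δ × C) := mem_center_iff.2 fun y =>
      Prod.ext (mem_center_iff.1 htc y.1) (mul_comm y.2 _)
    show g * (t, (c * c)⁻¹) ^ k * g⁻¹ ∈ N
    rw [mem_center_iff.1 (zpow_mem this k) g, mul_inv_cancel_right]
    exact ⟨k, rfl⟩⟩
  let q := QuotientGroup.mk' N
  let ι : Δ →* (Δ × C) ⧸ N := q.comp (MonoidHom.inl Δ C)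
  have hι : Function.Injective ι := by
    rw [injective_iff_map_eq_one]
    intro g hg
    have hg' : (g, (1 : C)) ∈ N := (QuotientGroup.eq_one_iff _).1 hg
    obtain ⟨k, hk⟩ := hg'
    have e1 : t ^ k = g := congrArg Prod.fst hk
    have e2 : ((c * c)⁻¹) ^ k = 1 := congrArg Prod.snd hk
    rw [inv_zpow, inv_eq_one, ← pow_two, ← zpow_natCast c 2, ← _root_.zpow_mul] at e2
    have e3 := orderOf_dvd_iff_zpow_eq_one.2 e2
    rw [show orderOf c = 2 * orderOf t by
      show orderOf (Multiplicative.ofAdd (1 : ZMod (2 * orderOf t))) = _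
      rw [orderOf_ofAdd_eq_addOrderOf, ZMod.addOrderOf_one]] at e3
    push_cast at e3
    have e4 : (orderOf t : ℤ) ∣ k := Int.dvd_of_mul_dvd_mul_left (by norm_num) e3
    rw [← e1, orderOf_dvd_iff_zpow_eq_one.1 e4]
  let y : Fin 7 → (Δ × C) ⧸ N := fun i => q (x i, c⁻¹)
  obtain ⟨Φ, hΦ⟩ := exists_lift y
    (fun i => by
      show q (x i, c⁻¹) * q (x i, c⁻¹) = 1
      rw [← map_mul, Prod.mk_mul_mk, hsq, ← mul_inv_rev, QuotientGroup.mk'_apply, QuotientGroup.eq_one_iff]
      exact mem_zpowers _)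
    (fun i j h => by
      show q (x i, c⁻¹) * q (x j, c⁻¹) = q (x j, c⁻¹) * q (x i, c⁻¹)
      rw [← map_mul, ← map_mul, Prod.mk_mul_mk, Prod.mk_mul_mk, h2 i j h])
    (fun i j h => by
      show q (x i, c⁻¹) * q (x j, c⁻¹) * q (x i, c⁻¹) = q (x j, c⁻¹) * q (x i, c⁻¹) * q (x j, c⁻¹)
      simp only [← map_mul, Prod.mk_mul_mk, h3 i j h])
  -- modulo the centre, the image of the Coxeter group is everything
  let S : Subgroup Δ := (Φ.range ⊔ center _).comap ι
  have hker : ∀ z ∈ π.ker, z ∈ S := fun z hz => mem_sup_right <| mem_center_iff.2 fun g => by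
    obtain ⟨⟨a, b⟩, rfl⟩ := QuotientGroup.mk'_surjective N g
    show q (a, b) * q (z, 1) = q (z, 1) * q (a, b)
    rw [← map_mul, ← map_mul, Prod.mk_mul_mk, Prod.mk_mul_mk, mem_center_iff.1 (hc hz) a, mul_one, one_mul]
  have hx : ∀ i, x i ∈ S := fun i => by
    refine mem_comap.2 ?_
    show q (x i, (1 : C)) ∈ _
    rw [show ((x i, 1) : Δ × C) = (x i, c⁻¹) * (1, c) by rw [Prod.mk_mul_mk, mul_one, inv_mul_cancel], map_mul]
    refine Subgroup.mul_mem_sup (MonoidHom.mem_range.2 ⟨s i, hΦ i⟩) (mem_center_iff.2 fun g => ?_)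
    obtain ⟨⟨a, b⟩, rfl⟩ := QuotientGroup.mk'_surjective N g
    show q (a, b) * q (1, c) = q (1, c) * q (a, b)
    rw [← map_mul, ← map_mul, Prod.mk_mul_mk, Prod.mk_mul_mk, mul_one, one_mul, mul_comm b c]
  have hall : ∀ g, g ∈ S := fun g => by
    have : π g ∈ S.map π := by
      have hle : Subgroup.closure (Set.range fun i => π (x i)) ≤ S.map π := (Subgroup.closure_le _).2 (by
        rintro _ ⟨i, rfl⟩; exact ⟨x i, hx i, rfl⟩)
      exact hle (hgen ▸ mem_top _)
    obtain ⟨h, hh, e⟩ := this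
    have hz : h⁻¹ * g ∈ π.ker := by rw [MonoidHom.mem_ker, map_mul, map_inv, e, inv_mul_cancel]
    simpa using mul_mem hh (hker _ hz)
  have hle : ι.range ≤ (commutator W).map Φ := by
    rw [MonoidHom.range_eq_map, ← hperf, _root_.commutator_def, map_commutator, commutator_le]
    rintro _ ⟨a, -, rfl⟩ _ ⟨b, -, rfl⟩
    obtain ⟨p, ⟨wa, rfl⟩, za, hza, ea⟩ := Subgroup.mem_sup_of_normal_right.1 (mem_comap.1 (hall a))
    obtain ⟨p', ⟨wb, rfl⟩, zb, hzb, eb⟩ := Subgroup.mem_sup_of_normal_right.1 (mem_comap.1 (hall b))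
    refine ⟨⁅wa, wb⁆, commutator_mem_commutator (mem_top _) (mem_top _), ?_⟩
    rw [map_commutatorElement, ← ea, ← eb]
    exact SLMult.commutator_congr (f := QuotientGroup.mk' (center ((Δ × C) ⧸ N)))
      (le_of_eq (QuotientGroup.ker_mk' _))
      (QuotientGroup.eq.2 (by rw [inv_mul_cancel_left]; exact hza))
      (QuotientGroup.eq.2 (by rw [inv_mul_cancel_left]; exact hzb))
  have h1 : Nat.card ((commutator W).map Φ) ≤ 1451520 :=
    (Nat.card_le_card_of_surjective _ (Φ.subgroupMap_surjective _)).trans card_commutator_W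
  have h2' : Nat.card ι.range = Nat.card Δ :=
    (Nat.card_congr (MonoidHom.ofInjective hι).toEquiv).symm
  haveI : Finite ((commutator W).map Φ) := Finite.of_surjective _ (Φ.subgroupMap_surjective _)
  have h3' := Nat.card_le_card_of_injective _ (Subgroup.inclusion_injective hle)
  omega

theorem seven_cases {P : Fin 7 → Prop} (h0 : P 0) (h1 : P 1) (h2 : P 2) (h3 : P 3) (h4 : P 4) (h5 : P 5)
    (h6 : P 6) (i : Fin 7) : P i := by
  fin_cases i <;> assumption

/-- **The bound**. -/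
theorem ker_le_two [Finite Γ] (hst : Cfsg.IsStemExtension σ) (hperfG : commutator G = ⊤)
    (hcard : Nat.card G = 1451520) (g : Fin 7 → G) (hgen : Subgroup.closure (Set.range g) = ⊤)
    (hg1 : ∀ i, g i * g i = 1) (hg2 : ∀ i j, CoxeterMatrix.E₇ i j = 2 → g i * g j = g j * g i)
    (hg3 : ∀ i j, CoxeterMatrix.E₇ i j = 3 → g i * g j * g i = g j * g i * g j) :
    IsCyclic σ.ker ∧ Nat.card σ.ker ∣ 2 := by
  obtain ⟨hs, hc, hk⟩ := hst
  obtain ⟨x0, e0⟩ := hs (g 0)
  obtain ⟨x2, e2, b02⟩ := exists_braid_lift hc hs (hg3 0 2 (by decide)) e0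
  obtain ⟨x3, e3, b23⟩ := exists_braid_lift hc hs (hg3 2 3 (by decide)) e2
  obtain ⟨x1, e1, b31⟩ := exists_braid_lift hc hs (hg3 3 1 (by decide)) e3
  obtain ⟨x4, e4, b34⟩ := exists_braid_lift hc hs (hg3 3 4 (by decide)) e3
  obtain ⟨x5, e5, b45⟩ := exists_braid_lift hc hs (hg3 4 5 (by decide)) e4
  obtain ⟨x6, e6, b56⟩ := exists_braid_lift hc hs (hg3 5 6 (by decide)) e5
  let x : Fin 7 → Γ := ![x0, x1, x2, x3, x4, x5, x6]
  have hσx : ∀ i, σ (x i) = g i := seven_cases e0 e1 e2 e3 e4 e5 e6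
  have hbr : ∀ i j, CoxeterMatrix.E₇ i j = 3 → x i * x j * x i = x j * x i * x j := by
    intro i j h
    fin_cases i <;> fin_cases j <;> first
      | exact absurd h (by decide)
      | exact b02 | exact b02.symm | exact b23 | exact b23.symm | exact b31 | exact b31.symm
      | exact b34 | exact b34.symm | exact b45 | exact b45.symm | exact b56 | exact b56.symm
  have hsqc : ∀ i, x i * x i ∈ center Γ := fun i => hc (by rw [MonoidHom.mem_ker, map_mul, hσx, hg1])
  have q2 : x 2 * x 2 = x 0 * x 0 := sq_eq_of_braid (hbr 0 2 (by decide)) (hsqc 0)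
  have q3 : x 3 * x 3 = x 0 * x 0 := (sq_eq_of_braid (hbr 2 3 (by decide)) (hsqc 2)).trans q2
  have q1 : x 1 * x 1 = x 0 * x 0 := (sq_eq_of_braid (hbr 3 1 (by decide)) (hsqc 3)).trans q3
  have q4 : x 4 * x 4 = x 0 * x 0 := (sq_eq_of_braid (hbr 3 4 (by decide)) (hsqc 3)).trans q3
  have q5 : x 5 * x 5 = x 0 * x 0 := (sq_eq_of_braid (hbr 4 5 (by decide)) (hsqc 4)).trans q4
  have q6 : x 6 * x 6 = x 0 * x 0 := (sq_eq_of_braid (hbr 5 6 (by decide)) (hsqc 5)).trans q5
  have hsq : ∀ i, x i * x i = x 0 * x 0 := seven_cases rfl q1 q2 q3 q4 q5 q6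
  have hcc : ∀ i j, CoxeterMatrix.E₇ i j = 2 → Commute (σ (x i)) (σ (x j)) := fun i j h => by
    rw [Commute, SemiconjBy, hσx, hσx, hg2 i j h]
  set z := ⁅x 0, x 1⁆ with hz'
  have hzc : z ∈ center Γ := CfsgLib.SpMult.comm_mem_center hc (hcc 0 1 (by decide)).eq
  have hz2 : z * z = 1 := by
    rw [hz', ← CfsgLib.SpMult.comm_mul_left _ _ _ hzc]
    exact commutatorElement_eq_one_iff_mul_comm.2 (mem_center_iff.1 (hsqc 0) (x 1)).symm
  have hzi : z⁻¹ = z := inv_eq_of_mul_eq_one_right hz2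
  have flip : ∀ i j, ⁅x i, x j⁆ = z → ⁅x j, x i⁆ = z := fun i j h => by
    rw [← commutatorElement_inv, h, hzi]
  have move : ∀ a c b, ⁅x a, x c⁆ = z → CoxeterMatrix.E₇ a b = 3 → CoxeterMatrix.E₇ a c = 2 →
      CoxeterMatrix.E₇ b c = 2 → ⁅x b, x c⁆ = z := fun a c b h hab hac hbc =>
    ((comm_eq_of_braid hc (hbr a b hab) (hcc a c hac) (hcc b c hbc)).symm).trans h
  have p01 : ⁅x 0, x 1⁆ = z := rfl
  have p21 : ⁅x 2, x 1⁆ = z := move 0 1 2 p01 (by decide) (by decide) (by decide)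
  have p30 : ⁅x 3, x 0⁆ = z := move 1 0 3 (flip 0 1 p01) (by decide) (by decide) (by decide)
  have p40 : ⁅x 4, x 0⁆ = z := move 3 0 4 p30 (by decide) (by decide) (by decide)
  have p24 : ⁅x 2, x 4⁆ = z := move 0 4 2 (flip 4 0 p40) (by decide) (by decide) (by decide)
  have p50 : ⁅x 5, x 0⁆ = z := move 4 0 5 p40 (by decide) (by decide) (by decide)
  have p52 : ⁅x 5, x 2⁆ = z := move 4 2 5 (flip 2 4 p24) (by decide) (by decide) (by decide)
  have p60 : ⁅x 6, x 0⁆ = z := move 5 0 6 p50 (by decide) (by decide) (by decide)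
  have p35 : ⁅x 3, x 5⁆ = z := move 2 5 3 (flip 5 2 p52) (by decide) (by decide) (by decide)
  have p62 : ⁅x 6, x 2⁆ = z := move 5 2 6 p52 (by decide) (by decide) (by decide)
  have p15 : ⁅x 1, x 5⁆ = z := move 3 5 1 p35 (by decide) (by decide) (by decide)
  have p63 : ⁅x 6, x 3⁆ = z := move 5 3 6 (flip 3 5 p35) (by decide) (by decide) (by decide)
  have p41 : ⁅x 4, x 1⁆ = z := move 5 1 4 (flip 1 5 p15) (by decide) (by decide) (by decide)
  have p61 : ⁅x 6, x 1⁆ = z := move 5 1 6 (flip 1 5 p15) (by decide) (by decide) (by decide)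
  have p46 : ⁅x 4, x 6⁆ = z := move 3 6 4 (flip 6 3 p63) (by decide) (by decide) (by decide)
  have hall : ∀ i j, CoxeterMatrix.E₇ i j = 2 → ⁅x i, x j⁆ = z := by
    intro i j h
    fin_cases i <;> fin_cases j <;> first
      | exact absurd h (by decide) | exact p01 | exact flip _ _ p01 | exact p15 | exact flip _ _ p15 | exact p21 | exact flip _ _ p21 | exact p24 | exact flip _ _ p24 | exact p30 | exact flip _ _ p30 | exact p35 | exact flip _ _ p35 | exact p40 | exact flip _ _ p40 | exact p41 | exact flip _ _ p41 | exact p46 | exact flip _ _ p46 | exact p50 | exact flip _ _ p50 | exact p52 | exact flip _ _ p52 | exact p60 | exact flip _ _ p60 | exact p61 | exact flip _ _ p61 | exact p62 | exact flip _ _ p62 | exact p63 | exact flip _ _ p63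
  -- divide by `z`
  let Z := zpowers z
  haveI hZn : Z.Normal := ⟨fun n hn a => by
    rw [CfsgLib.SpMult.conj_central (zpowers_le.2 hzc hn)]; exact hn⟩
  have hzker : z ∈ σ.ker := by
    rw [MonoidHom.mem_ker, hz', map_commutatorElement]
    exact commutatorElement_eq_one_iff_mul_comm.2 (hcc 0 1 (by decide)).eq
  have hZle : Z ≤ σ.ker := zpowers_le.2 hzker
  let π : Γ ⧸ Z →* G := QuotientGroup.lift Z σ hZle
  have hπs : Function.Surjective π := fun a => by
    obtain ⟨b, rfl⟩ := hs a; exact ⟨QuotientGroup.mk b, rfl⟩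
  have hπc : π.ker ≤ center (Γ ⧸ Z) := fun a ha => by
    obtain ⟨a, rfl⟩ := QuotientGroup.mk_surjective a
    have ha' : a ∈ center Γ := hc (show σ a = 1 from ha)
    refine mem_center_iff.2 fun b => ?_
    obtain ⟨b, rfl⟩ := QuotientGroup.mk_surjective b
    exact congrArg QuotientGroup.mk (mem_center_iff.1 ha' b)
  have hperf : commutator (Γ ⧸ Z) = ⊤ := by
    have hΓ : commutator Γ = ⊤ := eq_top_iff.2 fun a _ => by
      obtain ⟨h, hh, e⟩ := (Schur.map_commutator_of_surjective σ hs).ge (hperfG ▸ mem_top (σ a))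
      have : h⁻¹ * a ∈ σ.ker := by rw [MonoidHom.mem_ker, map_mul, map_inv, e, inv_mul_cancel]
      simpa using mul_mem hh (hk this)
    rw [← Schur.map_commutator_of_surjective (QuotientGroup.mk' Z) (QuotientGroup.mk'_surjective Z), hΓ,
      map_top_of_surjective _ (QuotientGroup.mk'_surjective Z)]
  have hle := card_le_of_relations π hπs hπc hperf (fun i => (x i : Γ ⧸ Z))
    (by
      refine Eq.trans ?_ hgen
      exact congrArg Subgroup.closure (congrArg Set.range (funext fun i => hσx i)))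
    (fun i => congrArg QuotientGroup.mk (hsq i))
    (by show σ (x 0) * σ (x 0) = 1; rw [hσx, hg1])
    (fun i j h => by
      refine commutatorElement_eq_one_iff_mul_comm.1 ?_
      show (QuotientGroup.mk' Z) ⁅x i, x j⁆ = 1
      rw [hall i j h, QuotientGroup.mk'_apply, QuotientGroup.eq_one_iff]
      exact mem_zpowers z)
    (fun i j h => congrArg QuotientGroup.mk (hbr i j h))
  have hb : Function.Bijective π := (Nat.bijective_iff_surjective_and_card π).2
    ⟨hπs, le_antisymm (hle.trans hcard.ge) (Nat.card_le_card_of_surjective π hπs)⟩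
  have hker : σ.ker = Z := le_antisymm (fun a ha => by
    rw [← QuotientGroup.eq_one_iff]
    exact hb.1 ((show π (a : Γ ⧸ Z) = 1 from ha).trans (map_one π).symm)) hZle
  rw [hker, Nat.card_zpowers]
  exact ⟨inferInstance, orderOf_dvd_of_pow_eq_one (by rw [pow_two, hz2])⟩

end CfsgLib.SpSixMult
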