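import Cfsg.Agent.SpSixMult.Upper
import Cfsg.Agent.SpSixMult.Clifford

/-!
The exceptional multiplier of `Sp₆(2)`.
-/

set_option autoImplicit false
set_option linter.style.haveILetI false

namespace CfsgLib.SpSixMult

open Subgroup CfsgLib.SpPres

universe u

variable {F : Type u} [Field F] [Fintype F]

theorem hasCyclicSchurMultiplier_sp6 (h : Fintype.card F = 2) :
    Cfsg.HasCyclicSchurMultiplier (Cfsg.PSp 3 F) 2 := by
  classical
  have h2 := SpMult.cases_of_card_two h
  haveI : CharP F 2 := CharTwo.of_one_ne_zero_of_two_eq_zero one_ne_zero (SpMult.two_eq_zero h2)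
  have hperf : commutator (Spn F 3) = ⊤ := SpMult.perfect_spn 3 (by norm_num) (Or.inl le_rfl)
  have hZ : center (Spn F 3) = ⊥ := by
    rw [← Subgroup.card_eq_one, CfsgLib.Symp.card_center, Nat.card_eq_fintype_card, h]
    rfl
  let e : Spn F 3 ≃* Cfsg.PSp 3 F := MulEquiv.ofBijective (QuotientGroup.mk' (center (Spn F 3)))
    ⟨(MonoidHom.ker_eq_bot_iff _).1 (by rw [QuotientGroup.ker_mk', hZ]), QuotientGroup.mk'_surjective _⟩
  -- the double cover
  obtain ⟨Γ₀, _, _, σ₁, hσ₁, hcard₁⟩ := exists_double_cover h2 hperf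
  let σ₀ : Γ₀ →* Cfsg.PSp 3 F := e.toMonoidHom.comp σ₁
  have hker : σ₀.ker = σ₁.ker := by
    ext x
    show e (σ₁ x) = 1 ↔ σ₁ x = 1
    rw [← map_one e]
    exact e.injective.eq_iff
  have h0 : Cfsg.IsStemExtension σ₀ :=
    ⟨e.surjective.comp hσ₁.1, hker ▸ hσ₁.2.1, hker ▸ hσ₁.2.2⟩
  have hcyc : IsCyclic σ₀.ker := by
    haveI : Fact (Nat.Prime 2) := ⟨Nat.prime_two⟩
    exact isCyclic_of_prime_card (p := 2) (by rw [hker, hcard₁])
  refine CfsgLib.StemExt.hasCyclicSchurMultiplier σ₀ h0 hcyc (by rw [hker, hcard₁]) fun Γ _ _ σ hσ => ?_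
  obtain ⟨φ, hφs, hφ⟩ := exists_phi (F := F) h2
  have hperfQ : commutator (Cfsg.PSp 3 F) = ⊤ := by
    rw [← Schur.map_commutator_of_surjective e.toMonoidHom e.surjective, hperf,
      map_top_of_surjective e.toMonoidHom e.surjective]
  refine ker_le_two hσ hperfQ ((Nat.card_congr e.symm.toEquiv).trans (card_sp6 h2))
    (fun i => e (gen i)) ?_ (fun i => by rw [← map_mul, gen_sq, map_one])
    (fun i j hij => by rw [← map_mul, ← map_mul, gen_comm i j hij])
    (fun i j hij => by simp only [← map_mul, gen_braid i j hij])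
  have hs : Subgroup.closure (Set.range s) = ⊤ := by
    have := CoxeterMatrix.E₇.toCoxeterSystem.subgroup_closure_range_simple
    exact this
  have := congrArg (Subgroup.map (e.toMonoidHom.comp φ)) hs
  rw [MonoidHom.map_closure, map_top_of_surjective (e.toMonoidHom.comp φ) (e.surjective.comp hφs)] at this
  refine Eq.trans ?_ this
  rw [← Set.range_comp]
  exact congrArg Subgroup.closure (congrArg Set.range (funext fun i => congrArg e (hφ i).symm))

end CfsgLib.SpSixMult
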