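/-
An extension of `Sp₆(2)` in which lifts of two orthogonal transvections commute is trivial.
-/
import Cfsg.Agent.SpSixMult.Main

set_option autoImplicit false

namespace CfsgLib.SpSixMult

open Subgroup CfsgLib.SpPres
open scoped commutatorElement

universe u

/-- With commuting lifts of two commuting generators the extension is trivial. -/
theorem injective_of_orth_commute {G : Type u} [Group G] {Γ : Type u} [Group Γ] [Finite Γ]
    {σ : Γ →* G} (hs : Function.Surjective σ) (hc : σ.ker ≤ center Γ) (hperfΓ : commutator Γ = ⊤)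
    (hcard : Nat.card G = 1451520) (g : Fin 7 → G) (hgen : Subgroup.closure (Set.range g) = ⊤)
    (hg1 : ∀ i, g i * g i = 1) (hg2 : ∀ i j, CoxeterMatrix.E₇ i j = 2 → g i * g j = g j * g i)
    (hg3 : ∀ i j, CoxeterMatrix.E₇ i j = 3 → g i * g j * g i = g j * g i * g j)
    (hcom : ∃ u v : Γ, σ u = g 4 ∧ σ v = g 1 ∧ u * v = v * u) : Function.Injective σ := by
  obtain ⟨x0, e0⟩ := hs (g 0)
  obtain ⟨x2, e2, b02⟩ := exists_braid_lift hc hs (hg3 0 2 (by decide)) e0
  obtain ⟨x3, e3, b23⟩ := exists_braid_lift hc hs (hg3 2 3 (by decide)) e2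
  obtain ⟨x1, e1, b31⟩ := exists_braid_lift hc hs (hg3 3 1 (by decide)) e3
  obtain ⟨x4, e4, b34⟩ := exists_braid_lift hc hs (hg3 3 4 (by decide)) e3
  obtain ⟨x5, e5, b45⟩ := exists_braid_lift hc hs (hg3 4 5 (by decide)) e4
  obtain ⟨x6, e6, b56⟩ := exists_braid_lift hc hs (hg3 5 6 (by decide)) e5
  let x : Fin 7 → Γ := ![x0, x1, x2, x3, x4, x5, x6]
  have hσx : ∀ i, σ (x i) = g i := seven_cases e0 e1 e2 e3 e4 e5 e6
  have hbr : ∀ i j, CoxeterMatrix.E₇ i j = 3 → x i * x j * x i = x j * x i * x j := by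
    intro i j h
    fin_cases i <;> fin_cases j <;> first
      | exact absurd h (by decide)
      | exact b02 | exact b02.symm | exact b23 | exact b23.symm | exact b31 | exact b31.symm
      | exact b34 | exact b34.symm | exact b45 | exact b45.symm | exact b56 | exact b56.symm
  have hsqc : ∀ i, x i * x i ∈ center Γ := fun i => hc (by rw [MonoidHom.mem_ker, map_mul, hσx, hg1])
  have q2 : x 2 * x 2 = x 0 * x 0 := sq_eq_of_braid (hbr 0 2 (by decide)) (hsqc 0)
  have q3 : x 3 * x 3 = x 0 * x 0 := (sq_eq_of_braid (hbr 2 3 (by decide)) (hsqc 2)).trans q2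
  have q1 : x 1 * x 1 = x 0 * x 0 := (sq_eq_of_braid (hbr 3 1 (by decide)) (hsqc 3)).trans q3
  have q4 : x 4 * x 4 = x 0 * x 0 := (sq_eq_of_braid (hbr 3 4 (by decide)) (hsqc 3)).trans q3
  have q5 : x 5 * x 5 = x 0 * x 0 := (sq_eq_of_braid (hbr 4 5 (by decide)) (hsqc 4)).trans q4
  have q6 : x 6 * x 6 = x 0 * x 0 := (sq_eq_of_braid (hbr 5 6 (by decide)) (hsqc 5)).trans q5
  have hsq : ∀ i, x i * x i = x 0 * x 0 := seven_cases rfl q1 q2 q3 q4 q5 q6
  have hcc : ∀ i j, CoxeterMatrix.E₇ i j = 2 → Commute (σ (x i)) (σ (x j)) := fun i j h => by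
    rw [Commute, SemiconjBy, hσx, hσx, hg2 i j h]
  set z := ⁅x 0, x 1⁆ with hz'
  have hzc : z ∈ center Γ := CfsgLib.SpMult.comm_mem_center hc (hcc 0 1 (by decide)).eq
  have hz2 : z * z = 1 := by
    rw [hz', ← CfsgLib.SpMult.comm_mul_left _ _ _ hzc]
    exact commutatorElement_eq_one_iff_mul_comm.2 (mem_center_iff.1 (hsqc 0) (x 1)).symm
  have hzi : z⁻¹ = z := inv_eq_of_mul_eq_one_right hz2
  have flip : ∀ i j, ⁅x i, x j⁆ = z → ⁅x j, x i⁆ = z := fun i j h => by
    rw [← commutatorElement_inv, h, hzi]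
  have move : ∀ a c b, ⁅x a, x c⁆ = z → CoxeterMatrix.E₇ a b = 3 → CoxeterMatrix.E₇ a c = 2 →
      CoxeterMatrix.E₇ b c = 2 → ⁅x b, x c⁆ = z := fun a c b h hab hac hbc =>
    ((comm_eq_of_braid hc (hbr a b hab) (hcc a c hac) (hcc b c hbc)).symm).trans h
  have p01 : ⁅x 0, x 1⁆ = z := rfl
  have p21 : ⁅x 2, x 1⁆ = z := move 0 1 2 p01 (by decide) (by decide) (by decide)
  have p30 : ⁅x 3, x 0⁆ = z := move 1 0 3 (flip 0 1 p01) (by decide) (by decide) (by decide)
  have p40 : ⁅x 4, x 0⁆ = z := move 3 0 4 p30 (by decide) (by decide) (by decide)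
  have p24 : ⁅x 2, x 4⁆ = z := move 0 4 2 (flip 4 0 p40) (by decide) (by decide) (by decide)
  have p50 : ⁅x 5, x 0⁆ = z := move 4 0 5 p40 (by decide) (by decide) (by decide)
  have p52 : ⁅x 5, x 2⁆ = z := move 4 2 5 (flip 2 4 p24) (by decide) (by decide) (by decide)
  have p60 : ⁅x 6, x 0⁆ = z := move 5 0 6 p50 (by decide) (by decide) (by decide)
  have p35 : ⁅x 3, x 5⁆ = z := move 2 5 3 (flip 5 2 p52) (by decide) (by decide) (by decide)
  have p62 : ⁅x 6, x 2⁆ = z := move 5 2 6 p52 (by decide) (by decide) (by decide)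
  have p15 : ⁅x 1, x 5⁆ = z := move 3 5 1 p35 (by decide) (by decide) (by decide)
  have p63 : ⁅x 6, x 3⁆ = z := move 5 3 6 (flip 3 5 p35) (by decide) (by decide) (by decide)
  have p41 : ⁅x 4, x 1⁆ = z := move 5 1 4 (flip 1 5 p15) (by decide) (by decide) (by decide)
  have p61 : ⁅x 6, x 1⁆ = z := move 5 1 6 (flip 1 5 p15) (by decide) (by decide) (by decide)
  have p46 : ⁅x 4, x 6⁆ = z := move 3 6 4 (flip 6 3 p63) (by decide) (by decide) (by decide)
  have hall : ∀ i j, CoxeterMatrix.E₇ i j = 2 → ⁅x i, x j⁆ = z := by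
    intro i j h
    fin_cases i <;> fin_cases j <;> first
      | exact absurd h (by decide) | exact p01 | exact flip _ _ p01 | exact p15 | exact flip _ _ p15 | exact p21 | exact flip _ _ p21 | exact p24 | exact flip _ _ p24 | exact p30 | exact flip _ _ p30 | exact p35 | exact flip _ _ p35 | exact p40 | exact flip _ _ p40 | exact p41 | exact flip _ _ p41 | exact p46 | exact flip _ _ p46 | exact p50 | exact flip _ _ p50 | exact p52 | exact flip _ _ p52 | exact p60 | exact flip _ _ p60 | exact p61 | exact flip _ _ p61 | exact p62 | exact flip _ _ p62 | exact p63 | exact flip _ _ p63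
  obtain ⟨u, v, hu, hv, huv⟩ := hcom
  have hz1 : z = 1 := by
    rw [← p41, SLMult.commutator_congr hc (hu.trans (hσx 4).symm).symm (hv.trans (hσx 1).symm).symm]
    exact commutatorElement_eq_one_iff_mul_comm.2 huv
  have hle := card_le_of_relations σ hs hc hperfΓ x
    (by
      refine Eq.trans ?_ hgen
      exact congrArg Subgroup.closure (congrArg Set.range (funext fun i => hσx i)))
    hsq (by rw [hσx, hg1])
    (fun i j h => commutatorElement_eq_one_iff_mul_comm.1 ((hall i j h).trans hz1))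
    hbr
  have hb : Function.Bijective σ := (Nat.bijective_iff_surjective_and_card σ).2
    ⟨hs, le_antisymm (hle.trans hcard.ge) (Nat.card_le_card_of_surjective σ hs)⟩
  exact hb.1

end CfsgLib.SpSixMult
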